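import Mathlib
import Groth.Agent.Lib.Helper8.ProfAlg.Sch
import Groth.Agent.Lib.Helper9.Misc.GSC1

/-!
# Rational points of `Spec A` for a profinite `k`-algebra `A`, and points of products
-/

set_option autoImplicit false

universe u

open CategoryTheory CategoryTheory.Limits MonoidalCategory CartesianMonoidalCategory
  AlgebraicGeometry

namespace Groth.Agent.H8.ProfGrp

open Groth.Agent.H8.ProfAlg

variable {k : Type u} [Field k]

/-- The point underlying a `k`-point. -/
noncomputable def ptOf {X : Over (Spec (CommRingCat.of k))}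
    (a : 𝟙_ (Over (Spec (CommRingCat.of k))) ⟶ X) : X.left :=
  a.left (IsLocalRing.closedPoint k)

theorem ptOf_comp {X Y : Over (Spec (CommRingCat.of k))}
    (a : 𝟙_ (Over (Spec (CommRingCat.of k))) ⟶ X) (φ : X ⟶ Y) :
    φ.left (ptOf a) = ptOf (a ≫ φ) := rfl

theorem cst_apply {X Y : Over (Spec (CommRingCat.of k))}
    (a : 𝟙_ (Over (Spec (CommRingCat.of k))) ⟶ Y) (x : X.left) :
    (toUnit X ≫ a).left x = ptOf a := by
  show a.left ((toUnit X).left x) = a.left (IsLocalRing.closedPoint k)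
  congr 1
  exact Subsingleton.elim (α := ↥(Spec (CommRingCat.of k))) _ _

variable (k) in
/-- `Spec A` as an object over `Spec k`. -/
noncomputable def TT (A : Type u) [CommRing A] [Algebra k A] : Over (Spec (CommRingCat.of k)) :=
  Over.mk (Spec.map (CommRingCat.ofHom (algebraMap k A)))

variable {A : Type u} [CommRing A] [Algebra k A]

instance : CompactSpace (TT k A).left :=
  inferInstanceAs (CompactSpace (Spec (CommRingCat.of A)))

theorem exists_kpoint (hA : IsProf k A) (t : (TT k A).left) :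
    ∃ τ : 𝟙_ (Over (Spec (CommRingCat.of k))) ⟶ TT k A, ptOf τ = t := by
  obtain ⟨p, hp⟩ : ∃ p : PrimeSpectrum A, p = t := ⟨t, rfl⟩
  have hbij : Function.Bijective (Algebra.ofId k (A ⧸ p.asIdeal)) := by
    refine ⟨(algebraMap k (A ⧸ p.asIdeal)).injective, fun y => ?_⟩
    obtain ⟨a, rfl⟩ := Ideal.Quotient.mk_surjective y
    obtain ⟨c, hc⟩ := exists_scalar_sub_mem hA p.asIdeal a
    refine ⟨c, ?_⟩
    have := Ideal.Quotient.eq.mpr hc
    exact this.symm
  obtain ⟨χ, hχ⟩ : ∃ χ : A →ₐ[k] k, ∀ a, χ a = 0 ↔ a ∈ p.asIdeal := by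
    refine ⟨((AlgEquiv.ofBijective (Algebra.ofId k (A ⧸ p.asIdeal)) hbij).symm :
      (A ⧸ p.asIdeal) →ₐ[k] k).comp (Ideal.Quotient.mkₐ k p.asIdeal), fun a => ?_⟩
    rw [AlgHom.comp_apply]
    show (AlgEquiv.ofBijective (Algebra.ofId k (A ⧸ p.asIdeal)) hbij).symm
      (Ideal.Quotient.mkₐ k p.asIdeal a) = 0 ↔ _
    rw [map_eq_zero_iff _ (AlgEquiv.injective _), Ideal.Quotient.mkₐ_eq_mk,
      Ideal.Quotient.eq_zero_iff_mem]
  have hcomp : Spec.map (CommRingCat.ofHom χ.toRingHom) ≫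
      Spec.map (CommRingCat.ofHom (algebraMap k A)) = 𝟙 _ := by
    rw [← Spec.map_comp, ← CommRingCat.ofHom_comp]
    have : χ.toRingHom.comp (algebraMap k A) = RingHom.id k := by
      ext c
      simp
    rw [this]
    exact Spec.map_id _
  refine ⟨Over.homMk (Spec.map (CommRingCat.ofHom χ.toRingHom)) hcomp, ?_⟩
  rw [← hp]
  show (Spec.map (CommRingCat.ofHom χ.toRingHom)) (IsLocalRing.closedPoint k) = p
  apply PrimeSpectrum.ext
  ext a
  show χ a ∈ (IsLocalRing.closedPoint k).asIdeal ↔ a ∈ p.asIdeal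
  rw [← hχ]
  show χ a ∈ IsLocalRing.maximalIdeal k ↔ _
  rw [IsLocalRing.maximalIdeal_eq_bot, Ideal.mem_bot]

theorem isHomeomorph_prod (hA : IsProf k A) (Y : Over (Spec (CommRingCat.of k))) :
    IsHomeomorph (fun p : (TT k A ⊗ Y).left =>
      ((fst (TT k A) Y).left p, (snd (TT k A) Y).left p)) :=
  Groth.Agent.H8.ProfAlg.main hA Y.left Y.hom

/-- The homeomorphism `|Spec A ×_k Y| ≃ |Spec A| × |Y|`. -/
noncomputable def prodHomeo (hA : IsProf k A) (Y : Over (Spec (CommRingCat.of k))) :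
    (TT k A ⊗ Y).left ≃ₜ (TT k A).left × Y.left :=
  (isHomeomorph_prod hA Y).homeomorph

theorem prodHomeo_apply (hA : IsProf k A) (Y : Over (Spec (CommRingCat.of k)))
    (p : (TT k A ⊗ Y).left) :
    prodHomeo hA Y p = ((fst (TT k A) Y).left p, (snd (TT k A) Y).left p) := rfl

theorem prodHomeo_lift (hA : IsProf k A) {Y Z : Over (Spec (CommRingCat.of k))}
    (u : Z ⟶ TT k A) (v : Z ⟶ Y) (z : Z.left) :
    prodHomeo hA Y ((lift u v).left z) = (u.left z, v.left z) := by
  rw [prodHomeo_apply]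
  show ((lift u v ≫ fst (TT k A) Y).left z, (lift u v ≫ snd (TT k A) Y).left z) = _
  rw [lift_fst, lift_snd]

theorem prodHomeo_symm_lift (hA : IsProf k A) {Y Z : Over (Spec (CommRingCat.of k))}
    (u : Z ⟶ TT k A) (v : Z ⟶ Y) (z : Z.left) :
    (prodHomeo hA Y).symm (u.left z, v.left z) = (lift u v).left z := by
  rw [Homeomorph.symm_apply_eq, prodHomeo_lift]

end Groth.Agent.H8.ProfGrp
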