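import Mathlib
import Groth.Agent.Lib.Helper8.ProfGrp.Pts
import Groth.Agent.S0355

/-!
# Core arguments for S7489
-/

set_option autoImplicit false

universe u

open CategoryTheory CategoryTheory.Limits MonoidalCategory CartesianMonoidalCategory MonObj GrpObj
  AlgebraicGeometry

namespace Groth.Agent.H8.ProfGrp

open Groth.Agent.H8.ProfAlg Groth.Agent.H9.GSC

variable {k : Type u} [Field k] {G : Over (Spec (CommRingCat.of k))} [GrpObj G]

local notation "𝟙K" => 𝟙_ (Over (Spec (CommRingCat.of k)))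

theorem inv_hom_apply (φ : G ≅ G) (x : G.left) : φ.inv.left (φ.hom.left x) = x := by
  show (φ.hom ≫ φ.inv).left x = x
  rw [Iso.hom_inv_id]
  rfl

theorem hom_inv_apply (φ : G ≅ G) (x : G.left) : φ.hom.left (φ.inv.left x) = x := by
  show (φ.inv ≫ φ.hom).left x = x
  rw [Iso.inv_hom_id]
  rfl

theorem mem_cc_iff (φ : G ≅ G) (x y : G.left) :
    φ.hom.left x ∈ connectedComponent (φ.hom.left y) ↔ x ∈ connectedComponent y := by
  constructor
  · intro h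
    have := Continuous.image_connectedComponent_subset φ.inv.left.continuous (φ.hom.left y)
      ⟨_, h, rfl⟩
    rwa [inv_hom_apply, inv_hom_apply] at this
  · intro h
    exact Continuous.image_connectedComponent_subset φ.hom.left.continuous y ⟨_, h, rfl⟩

theorem pt_eq_ptOf (a : 𝟙K ⟶ G) : pt G a = ptOf a := rfl

variable {A : Type u} [CommRing A] [Algebra k A]

/-- `(t, x) ↦ x * f(t)`. -/
noncomputable def psi (fT : TT k A ⟶ G) : TT k A ⊗ G ⟶ G :=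
  snd (TT k A) G * (fst (TT k A) G ≫ fT)

theorem slice_left (fT : TT k A ⟶ G) (τ : 𝟙K ⟶ TT k A) :
    lift (toUnit G ≫ τ) (𝟙 G) ≫ psi fT = (rmul (τ ≫ fT)).hom := by
  rw [psi, MonObj.comp_mul, lift_snd, lift_fst_assoc, Category.assoc]
  rfl

theorem slice_right (fT : TT k A ⟶ G) (g : 𝟙K ⟶ G) :
    lift (𝟙 (TT k A)) (toUnit (TT k A) ≫ g) ≫ psi fT = fT ≫ (lmul g).hom := by
  rw [psi, MonObj.comp_mul, lift_snd, lift_fst_assoc, Category.id_comp]
  show _ = fT ≫ (cst G g G * 𝟙 G)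
  rw [MonObj.comp_mul, comp_cst, Category.comp_id]
  rfl

/-- The core argument: a closed subset of `Spec A` mapping into one connected component can be
translated into any open neighbourhood of a point of that component. -/
theorem core [JacobsonSpace G.left]
    (hrat : ∀ g : G.left, IsClosed ({g} : Set G.left) → ∃ a : 𝟙K ⟶ G, ptOf a = g)
    (hA : IsProf k A) (fT : TT k A ⟶ G) (y : G.left) (U : Set G.left) (hU : IsOpen U)
    (hyU : y ∈ U) (Z : Set (TT k A).left) (hZ : IsClosed Z)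
    (hZy : ∀ z ∈ Z, fT.left z ∈ connectedComponent y) :
    ∃ g : 𝟙K ⟶ G, ∀ z ∈ Z, (lmul g).hom.left (fT.left z) ∈ U := by
  have hirr : IsIrreducible (connectedComponent (η[G].left (IsLocalRing.closedPoint k))) :=
    (Groth.Agent.S0355.result k G).1
  obtain ⟨e, he⟩ : ∃ e : G.left, e = η[G].left (IsLocalRing.closedPoint k) := ⟨_, rfl⟩
  rw [← he] at hirr
  have he1 : pt G (1 : 𝟙K ⟶ G) = e := by rw [he]; exact pt_one
  obtain ⟨gen, hgen⟩ := QuasiSober.sober hirr isClosed_connectedComponent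
  obtain ⟨Φ, hΦ⟩ : ∃ Φ : (TT k A ⊗ G).left ≃ₜ (TT k A).left × G.left, Φ = prodHomeo hA G :=
    ⟨_, rfl⟩
  obtain ⟨O, hOdef⟩ : ∃ O : Set ((TT k A).left × G.left),
      O = Φ.symm ⁻¹' ((psi fT).left ⁻¹' U) := ⟨_, rfl⟩
  have hOo : IsOpen O := by
    rw [hOdef]
    exact (hU.preimage (psi fT).left.continuous).preimage Φ.symm.continuous
  have hO1 : ∀ (τ : 𝟙K ⟶ TT k A) (x : G.left),
      (ptOf τ, x) ∈ O ↔ (rmul (τ ≫ fT)).hom.left x ∈ U := by
    intro τ x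
    have h1 : Φ.symm (ptOf τ, x) = (lift (toUnit G ≫ τ) (𝟙 G)).left x := by
      rw [hΦ, ← prodHomeo_symm_lift hA (toUnit G ≫ τ) (𝟙 G) x, cst_apply]
      rfl
    rw [hOdef, Set.mem_preimage, Set.mem_preimage, h1, ← slice_left]
    rfl
  have hO2 : ∀ (g : 𝟙K ⟶ G) (t : (TT k A).left),
      (t, ptOf g) ∈ O ↔ (lmul g).hom.left (fT.left t) ∈ U := by
    intro g t
    have h1 : Φ.symm (t, ptOf g) =
        (lift (𝟙 (TT k A)) (toUnit (TT k A) ≫ g)).left t := by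
      rw [hΦ, ← prodHomeo_symm_lift hA (𝟙 (TT k A)) (toUnit (TT k A) ≫ g) t, cst_apply]
      rfl
    rw [hOdef, Set.mem_preimage, Set.mem_preimage, h1]
    show (lift (𝟙 (TT k A)) (toUnit (TT k A) ≫ g) ≫ psi fT).left t ∈ U ↔ _
    rw [slice_right]
    rfl
  have hgenO : ∀ t ∈ Z, (t, gen) ∈ O := by
    intro t ht
    obtain ⟨τ, hτ⟩ := exists_kpoint hA t
    rw [← hτ, hO1]
    obtain ⟨ρ, hρ⟩ : ∃ ρ : G ≅ G, ρ = rmul (τ ≫ fT) := ⟨_, rfl⟩
    rw [← hρ]
    have hρe : ρ.hom.left e = fT.left t := by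
      rw [hρ, ← he1, rmul_pt, _root_.one_mul, pt_eq_ptOf, ← ptOf_comp, hτ]
    have hopen : IsOpen (ρ.hom.left ⁻¹' U) := hU.preimage ρ.hom.left.continuous
    rw [← Set.mem_preimage, hgen.mem_open_set_iff hopen]
    refine ⟨ρ.inv.left y, ?_, ?_⟩
    · rw [← mem_cc_iff ρ, hom_inv_apply, hρe]
      have := hZy t ht
      rw [← connectedComponent_eq this]
      exact mem_connectedComponent
    · rw [Set.mem_preimage, hom_inv_apply]
      exact hyU
  obtain ⟨u, v, huo, hvo, hZu, hgv, huv⟩ := generalized_tube_lemma hZ.isCompact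
    (isCompact_singleton (x := gen)) hOo (by
      rintro ⟨t, x⟩ ⟨ht, hx⟩
      rw [Set.mem_singleton_iff] at hx
      change x = gen at hx
      rw [hx]
      exact hgenO t ht)
  have hvne : v.Nonempty := ⟨gen, hgv rfl⟩
  obtain ⟨g₀, hg₀v, hg₀c⟩ := nonempty_inter_closedPoints hvne hvo.isLocallyClosed
  obtain ⟨g, hg⟩ := hrat g₀ hg₀c
  refine ⟨g, fun z hz => ?_⟩
  rw [← hO2, hg]
  exact huv ⟨hZu hz, hg₀v⟩

/-- `(s, t) ↦ f(s) f(t)⁻¹`. -/
noncomputable def delta (fT : TT k A ⟶ G) : TT k A ⊗ TT k A ⟶ G :=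
  (fst (TT k A) (TT k A) ≫ fT) * (snd (TT k A) (TT k A) ≫ fT)⁻¹

theorem lift_delta (fT : TT k A ⟶ G) (σ τ : 𝟙K ⟶ TT k A) :
    lift σ τ ≫ delta fT = (σ ≫ fT) * (τ ≫ fT)⁻¹ := by
  rw [delta, MonObj.comp_mul, GrpObj.comp_inv, lift_fst_assoc, lift_snd_assoc]

/-- Uniformity of the classes. -/
theorem uniform (hA : IsProf k A) (fT : TT k A ⟶ G) (t₀ : (TT k A).left) (U : Set G.left)
    (hU : IsOpen U)
    (h : ∀ s, fT.left s ∈ connectedComponent (fT.left t₀) → fT.left s ∈ U) :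
    ∃ M : Set (TT k A).left, IsOpen M ∧ t₀ ∈ M ∧
      ∀ t ∈ M, ∀ s, fT.left s ∈ connectedComponent (fT.left t) → fT.left s ∈ U := by
  obtain ⟨e, he⟩ : ∃ e : G.left, e = η[G].left (IsLocalRing.closedPoint k) := ⟨_, rfl⟩
  have he1 : pt G (1 : 𝟙K ⟶ G) = e := by rw [he]; exact pt_one
  obtain ⟨Φ, hΦ⟩ : ∃ Φ : (TT k A ⊗ TT k A).left ≃ₜ (TT k A).left × (TT k A).left,
      Φ = prodHomeo hA (TT k A) := ⟨_, rfl⟩
  obtain ⟨R, hRdef⟩ : ∃ R : Set ((TT k A).left × (TT k A).left),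
      R = Φ.symm ⁻¹' ((delta fT).left ⁻¹' (connectedComponent e)ᶜ) := ⟨_, rfl⟩
  have hRo : IsOpen R := by
    rw [hRdef]
    exact ((isClosed_connectedComponent.isOpen_compl).preimage
      (delta fT).left.continuous).preimage Φ.symm.continuous
  have hR1 : ∀ (σ τ : 𝟙K ⟶ TT k A),
      (ptOf σ, ptOf τ) ∈ R ↔ fT.left (ptOf σ) ∉ connectedComponent (fT.left (ptOf τ)) := by
    intro σ τ
    have h1 : Φ.symm (ptOf σ, ptOf τ) = ptOf (lift σ τ) := by
      rw [hΦ]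
      exact prodHomeo_symm_lift hA σ τ (IsLocalRing.closedPoint k)
    rw [hRdef, Set.mem_preimage, Set.mem_preimage, h1, ptOf_comp, lift_delta, Set.mem_compl_iff,
      not_iff_not]
    obtain ⟨a, ha⟩ : ∃ a : 𝟙K ⟶ G, a = σ ≫ fT := ⟨_, rfl⟩
    obtain ⟨b, hb⟩ : ∃ b : 𝟙K ⟶ G, b = τ ≫ fT := ⟨_, rfl⟩
    rw [ptOf_comp, ptOf_comp, ← ha, ← hb]
    have h2 : ptOf (a * b⁻¹) = (rmul b⁻¹).hom.left (ptOf a) := by
      rw [← pt_eq_ptOf, ← pt_eq_ptOf, rmul_pt]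
    have h3 : e = (rmul b⁻¹).hom.left (ptOf b) := by
      rw [← pt_eq_ptOf, rmul_pt, mul_inv_cancel, he1]
    rw [h2, h3, mem_cc_iff]
  obtain ⟨K, hKdef⟩ : ∃ K : Set (TT k A).left, K = (fT.left ⁻¹' U)ᶜ := ⟨_, rfl⟩
  have hKc : IsCompact K := by
    rw [hKdef]
    exact (hU.preimage fT.left.continuous).isClosed_compl.isCompact
  obtain ⟨τ₀, hτ₀⟩ := exists_kpoint hA t₀
  obtain ⟨u, v, huo, hvo, hKu, htv, huv⟩ := generalized_tube_lemma hKc
    (isCompact_singleton (x := t₀)) hRo (by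
      rintro ⟨s, t⟩ ⟨hs, ht⟩
      rw [Set.mem_singleton_iff] at ht
      change t = t₀ at ht
      change s ∈ K at hs
      rw [ht]
      obtain ⟨σ, hσ⟩ := exists_kpoint hA s
      rw [← hσ, ← hτ₀, hR1, hσ, hτ₀]
      intro hcc
      rw [hKdef] at hs
      exact hs (h s hcc))
  refine ⟨v, hvo, htv rfl, fun t ht s hs => ?_⟩
  by_contra hne
  have hsK : s ∈ K := by rw [hKdef]; exact hne
  have hmem : (s, t) ∈ R := huv ⟨hKu hsK, ht⟩
  obtain ⟨σ, hσ⟩ := exists_kpoint hA s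
  obtain ⟨τ, hτ⟩ := exists_kpoint hA t
  rw [← hσ, ← hτ, hR1, hσ, hτ] at hmem
  exact hmem hs

end Groth.Agent.H8.ProfGrp
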