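import Mathlib

/-!
# Topological lemmas for S7489

* connected components of a compact quasi-separated prespectral space are intersections of clopens;
* an assembly lemma producing finitely many pairwise disjoint "clopen pieces" covering a compact image.
-/

set_option autoImplicit false

open Set Topology TopologicalSpace

namespace Groth.Agent.H8.ProfGrp

theorem exists_compact_open_between {Y : Type*} [TopologicalSpace Y] [PrespectralSpace Y]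
    {K O : Set Y} (hK : IsCompact K) (hO : IsOpen O) (hKO : K ⊆ O) :
    ∃ U : Set Y, IsOpen U ∧ IsCompact U ∧ K ⊆ U ∧ U ⊆ O := by
  have h : ∀ p ∈ K, ∃ V : Set Y, (IsOpen V ∧ IsCompact V) ∧ p ∈ V ∧ V ⊆ O := fun p hp =>
    PrespectralSpace.isTopologicalBasis.exists_subset_of_mem_open (hKO hp) hO
  choose! V hV hpV hVO using h
  obtain ⟨t, htK, hcov⟩ := hK.elim_nhds_subcover V (fun p hp => (hV p hp).1.mem_nhds (hpV p hp))
  exact ⟨⋃ p ∈ t, V p, isOpen_biUnion fun p hp => (hV p (htK p hp)).1,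
    t.isCompact_biUnion fun p hp => (hV p (htK p hp)).2, hcov,
    Set.iUnion₂_subset fun p hp => hVO p (htK p hp)⟩

/-- In a compact quasi-separated prespectral space, the connected component of a point is the
intersection of its clopen neighbourhoods. -/
theorem connectedComponent_eq_iInter_isClopen_of_spectral {Y : Type*} [TopologicalSpace Y]
    [CompactSpace Y] [QuasiSeparatedSpace Y] [PrespectralSpace Y] (x : Y) :
    connectedComponent x = ⋂ s : { s : Set Y // IsClopen s ∧ x ∈ s }, (s : Set Y) := by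
  apply Set.Subset.antisymm connectedComponent_subset_iInter_isClopen
  refine IsPreconnected.subset_connectedComponent ?_ (Set.mem_iInter.2 fun s => s.2.2)
  have hs : IsClosed (⋂ s : { s : Set Y // IsClopen s ∧ x ∈ s }, (s : Set Y)) :=
    isClosed_iInter fun s => s.2.1.1
  rw [isPreconnected_iff_subset_of_fully_disjoint_closed hs]
  intro a b ha hb hab ab_disj
  obtain ⟨S, hSdef⟩ : ∃ S : Set Y, S = ⋂ s : { s : Set Y // IsClopen s ∧ x ∈ s }, (s : Set Y) :=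
    ⟨_, rfl⟩
  rw [← hSdef] at hs hab ⊢
  have hxS : x ∈ S := by rw [hSdef]; exact Set.mem_iInter.2 fun s => s.2.2
  have hSsub : ∀ Z : Set Y, IsClopen Z → x ∈ Z → S ⊆ Z := by
    intro Z hZ hxZ
    rw [hSdef]
    exact Set.iInter_subset (fun s : { s : Set Y // IsClopen s ∧ x ∈ s } => (s : Set Y))
      ⟨Z, hZ, hxZ⟩
  have hdisj : ∀ p, p ∈ a → p ∈ b → False := fun p hpa hpb =>
    Set.disjoint_iff.mp ab_disj ⟨hpa, hpb⟩
  obtain ⟨U, hUo, hUc, hBU, hUb⟩ := exists_compact_open_between (hs.inter ha).isCompact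
    hb.isOpen_compl (fun p hp hpb => hdisj p hp.2 hpb)
  obtain ⟨V, hVo, hVc, hCV, hVa⟩ := exists_compact_open_between (hs.inter hb).isCompact
    ha.isOpen_compl (fun p hp hpa => hdisj p hpa hp.2)
  have hSUV : S ⊆ U ∪ V := by
    intro p hp
    rcases hab hp with h | h
    · exact Or.inl (hBU ⟨hp, h⟩)
    · exact Or.inr (hCV ⟨hp, h⟩)
  have hSUVe : ∀ p, p ∈ S → p ∈ U → p ∈ V → False := by
    intro p hp hpU hpV
    rcases hab hp with h | h
    · exact hVa hpV h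
    · exact hUb hpU h
  have hK1 : IsCompact (U ∩ V) := hUc.inter_of_isOpen hVc hUo hVo
  have h1 : (U ∩ V) ∩ ⋂ s : { s : Set Y // IsClopen s ∧ x ∈ s }, (s : Set Y) = ∅ := by
    rw [← hSdef, Set.eq_empty_iff_forall_notMem]
    rintro p ⟨⟨hpU, hpV⟩, hpS⟩
    exact hSUVe p hpS hpU hpV
  obtain ⟨fin1, hfin1⟩ := hK1.elim_finite_subfamily_closed _
    (fun s : { s : Set Y // IsClopen s ∧ x ∈ s } => s.2.1.1) h1
  have hK2 : IsCompact (U ∪ V)ᶜ := (hUo.union hVo).isClosed_compl.isCompact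
  have h2 : (U ∪ V)ᶜ ∩ ⋂ s : { s : Set Y // IsClopen s ∧ x ∈ s }, (s : Set Y) = ∅ := by
    rw [← hSdef, Set.eq_empty_iff_forall_notMem]
    rintro p ⟨hpUV, hpS⟩
    exact hpUV (hSUV hpS)
  obtain ⟨fin2, hfin2⟩ := hK2.elim_finite_subfamily_closed _
    (fun s : { s : Set Y // IsClopen s ∧ x ∈ s } => s.2.1.1) h2
  obtain ⟨Z1, hZ1def⟩ : ∃ Z1 : Set Y, Z1 = ⋂ i ∈ fin1, (i : Set Y) := ⟨_, rfl⟩
  obtain ⟨Z2, hZ2def⟩ : ∃ Z2 : Set Y, Z2 = ⋂ i ∈ fin2, (i : Set Y) := ⟨_, rfl⟩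
  rw [← hZ1def] at hfin1
  rw [← hZ2def] at hfin2
  have hZ1 : IsClopen Z1 := by rw [hZ1def]; exact isClopen_biInter_finset fun i _ => i.2.1
  have hZ2 : IsClopen Z2 := by rw [hZ2def]; exact isClopen_biInter_finset fun i _ => i.2.1
  have hxZ1 : x ∈ Z1 := by rw [hZ1def]; exact Set.mem_iInter₂.2 fun s _ => s.2.2
  have hxZ2 : x ∈ Z2 := by rw [hZ2def]; exact Set.mem_iInter₂.2 fun s _ => s.2.2
  have hZ : IsClopen (Z1 ∩ Z2) := hZ1.inter hZ2
  have hZsub : Z1 ∩ Z2 ⊆ U ∪ V := by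
    intro p hp
    by_contra hne
    have : p ∈ (U ∪ V)ᶜ ∩ Z2 := ⟨hne, hp.2⟩
    rw [hfin2] at this
    exact this
  have hZdis : ∀ p, p ∈ Z1 ∩ Z2 → p ∈ U → p ∈ V → False := by
    intro p hp hpU hpV
    have : p ∈ (U ∩ V) ∩ Z1 := ⟨⟨hpU, hpV⟩, hp.1⟩
    rw [hfin1] at this
    exact this
  have hZU : IsClopen ((Z1 ∩ Z2) ∩ U) := by
    refine ⟨?_, hZ.2.inter hUo⟩
    have : (Z1 ∩ Z2) ∩ U = (Z1 ∩ Z2) ∩ Vᶜ := by
      ext p
      constructor
      · rintro ⟨hp, hpU⟩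
        exact ⟨hp, fun hpV => hZdis p hp hpU hpV⟩
      · rintro ⟨hp, hpV⟩
        rcases hZsub hp with h | h
        · exact ⟨hp, h⟩
        · exact absurd h hpV
    rw [this]
    exact hZ.1.inter hVo.isClosed_compl
  have hZV : IsClopen ((Z1 ∩ Z2) ∩ V) := by
    refine ⟨?_, hZ.2.inter hVo⟩
    have : (Z1 ∩ Z2) ∩ V = (Z1 ∩ Z2) ∩ Uᶜ := by
      ext p
      constructor
      · rintro ⟨hp, hpV⟩
        exact ⟨hp, fun hpU => hZdis p hp hpU hpV⟩
      · rintro ⟨hp, hpU⟩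
        rcases hZsub hp with h | h
        · exact absurd h hpU
        · exact ⟨hp, h⟩
    rw [this]
    exact hZ.1.inter hUo.isClosed_compl
  rcases hSUV hxS with hxU | hxV
  · left
    have hSU : S ⊆ (Z1 ∩ Z2) ∩ U := hSsub _ hZU ⟨⟨hxZ1, hxZ2⟩, hxU⟩
    intro p hp
    rcases hab hp with h | h
    · exact h
    · exact absurd (hSU hp).2 (fun hpU => hUb hpU h)
  · right
    have hSV : S ⊆ (Z1 ∩ Z2) ∩ V := hSsub _ hZV ⟨⟨hxZ1, hxZ2⟩, hxV⟩
    intro p hp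
    rcases hab hp with h | h
    · exact absurd (hSV hp).2 (fun hpV => hVa hpV h)
    · exact h

open scoped Function in
/-- Assembly lemma. -/
theorem assembly {X T : Type*} [TopologicalSpace X] [TopologicalSpace T] [CompactSpace T]
    [QuasiSeparatedSpace X] [PrespectralSpace X]
    (φ : T → X) (hφ : Continuous φ) (𝒰 : Set (Set X))
    (h𝒰o : ∀ U ∈ 𝒰, IsOpen U) (h𝒰c : ∀ U ∈ 𝒰, IsCompact U)
    (H1 : ∀ t, ∃ U ∈ 𝒰, ∀ s, φ s ∈ connectedComponent (φ t) → φ s ∈ U)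
    (H2 : ∀ t₀ (U : Set X), IsOpen U → (∀ s, φ s ∈ connectedComponent (φ t₀) → φ s ∈ U) →
      ∃ M : Set T, IsOpen M ∧ t₀ ∈ M ∧
        ∀ t ∈ M, ∀ s, φ s ∈ connectedComponent (φ t) → φ s ∈ U) :
    ∃ (n : ℕ) (O U : Fin n → Set X), (∀ j, U j ∈ 𝒰) ∧ (∀ j, O j ⊆ U j) ∧ (∀ j, IsOpen (O j)) ∧
      (∀ j, IsOpen (U j \ O j)) ∧ Pairwise (Disjoint on O) ∧ Set.range φ ⊆ ⋃ j, O j := by
  classical
  choose U₀ hU₀ hU₀' using H1
  choose M hMo hMt hM using fun t₀ => H2 t₀ (U₀ t₀) (h𝒰o _ (hU₀ t₀)) (hU₀' t₀)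
  obtain ⟨I, hI⟩ := isCompact_univ.elim_finite_subcover M hMo
    (fun t _ => Set.mem_iUnion.2 ⟨t, hMt t⟩)
  obtain ⟨W, hWdef⟩ : ∃ W : Set X, W = ⋃ i ∈ I, U₀ i := ⟨_, rfl⟩
  have hWo : IsOpen W := by rw [hWdef]; exact isOpen_biUnion fun i _ => h𝒰o _ (hU₀ i)
  have hWc : IsCompact W := by rw [hWdef]; exact I.isCompact_biUnion fun i _ => h𝒰c _ (hU₀ i)
  have hUW : ∀ i ∈ I, U₀ i ⊆ W := by
    intro i hi; rw [hWdef]; exact Set.subset_biUnion_of_mem (u := fun i => U₀ i) hi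
  have hb : ∀ t, ∃ i ∈ I, ∀ s, φ s ∈ connectedComponent (φ t) → φ s ∈ U₀ i := by
    intro t
    obtain ⟨i, hi, hti⟩ := Set.mem_iUnion₂.1 (hI (Set.mem_univ t))
    exact ⟨i, hi, hM i t hti⟩
  have hφW : ∀ t, φ t ∈ W := by
    intro t
    obtain ⟨i, hi, h⟩ := hb t
    exact hUW i hi (h t mem_connectedComponent)
  haveI : CompactSpace W := isCompact_iff_compactSpace.mp hWc
  haveI : QuasiSeparatedSpace W :=
    QuasiSeparatedSpace.of_isOpenEmbedding hWo.isOpenEmbedding_subtypeVal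
  haveI : PrespectralSpace W := hWo.isOpenEmbedding_subtypeVal.prespectralSpace
  obtain ⟨φW, hφWdef⟩ : ∃ φW : T → W, ∀ t, (φW t : X) = φ t := ⟨fun t => ⟨φ t, hφW t⟩, fun _ => rfl⟩
  have hφWc : Continuous φW := by
    rw [continuous_induced_rng]
    have : (Subtype.val ∘ φW) = φ := funext hφWdef
    rw [this]; exact hφ
  have hc : ∀ t, ∃ (Z : Set W) (i : T), i ∈ I ∧ IsClopen Z ∧ φW t ∈ Z ∧
      ∀ s, φW s ∈ Z → φ s ∈ U₀ i := by
    intro t
    obtain ⟨i, hi, h⟩ := hb t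
    have hcc := connectedComponent_eq_iInter_isClopen_of_spectral (φW t)
    have hK : IsCompact ((φ ⁻¹' (U₀ i))ᶜ) :=
      ((h𝒰o _ (hU₀ i)).preimage hφ).isClosed_compl.isCompact
    have hemp : (φ ⁻¹' (U₀ i))ᶜ ∩
        ⋂ Z : {Z : Set W // IsClopen Z ∧ φW t ∈ Z}, φW ⁻¹' (Z : Set W) = ∅ := by
      rw [Set.eq_empty_iff_forall_notMem]
      rintro s ⟨hs1, hs2⟩
      apply hs1
      apply h s
      have h3 : φW s ∈ connectedComponent (φW t) := by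
        rw [hcc]; exact Set.mem_iInter.2 fun Z => (Set.mem_iInter.1 hs2 Z)
      have h4 := (continuous_subtype_val.image_connectedComponent_subset (φW t))
        ⟨_, h3, rfl⟩
      rw [hφWdef, hφWdef] at h4
      exact h4
    obtain ⟨F, hF⟩ := hK.elim_finite_subfamily_closed _
      (fun Z : {Z : Set W // IsClopen Z ∧ φW t ∈ Z} => (Z.2.1.preimage hφWc).1) hemp
    refine ⟨⋂ Z ∈ F, (Z : Set W), i, hi, isClopen_biInter_finset fun Z _ => Z.2.1,
      Set.mem_iInter₂.2 fun Z _ => Z.2.2, ?_⟩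
    intro s hs
    by_contra hne
    have : s ∈ (φ ⁻¹' U₀ i)ᶜ ∩ ⋂ Z ∈ F, φW ⁻¹' (Z : Set W) :=
      ⟨hne, Set.mem_iInter₂.2 fun Z hZ => Set.mem_iInter₂.1 hs Z hZ⟩
    rw [hF] at this
    exact this
  choose Z idx hidxI hZc hZt hZU using hc
  obtain ⟨J, hJ⟩ := isCompact_univ.elim_finite_subcover (fun t => φW ⁻¹' Z t)
    (fun t => (hZc t).2.preimage hφWc) (fun t _ => Set.mem_iUnion.2 ⟨t, hZt t⟩)
  obtain ⟨e⟩ : Nonempty (J ≃ Fin J.card) := ⟨J.equivFin⟩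
  obtain ⟨Zs, hZsdef⟩ : ∃ Zs : Fin J.card → Set W, ∀ j, Zs j = Z (e.symm j) := ⟨_, fun _ => rfl⟩
  have hZsc : ∀ j, IsClopen (Zs j) := fun j => by rw [hZsdef]; exact hZc _
  obtain ⟨Z', hZ'def⟩ : ∃ Z' : Fin J.card → Set W, Z' = disjointed Zs := ⟨_, rfl⟩
  have hZ'c : ∀ j, IsClopen (Z' j) := by
    intro j
    rw [hZ'def]
    exact disjointedRec (f := Zs) (p := IsClopen) (fun t i ht => ht.diff (hZsc i)) (hZsc j)
  have hZ'sub : ∀ j, Z' j ⊆ Zs j := fun j => by rw [hZ'def]; exact disjointed_subset Zs j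
  have hZ'dis : Pairwise (Disjoint on Z') := by rw [hZ'def]; exact disjoint_disjointed Zs
  have hZ'cov : ∀ t, ∃ j, φW t ∈ Z' j := by
    intro t
    obtain ⟨i, hi, hti⟩ := Set.mem_iUnion₂.1 (hJ (Set.mem_univ t))
    have h1 : φW t ∈ ⋃ j, Zs j := by
      refine Set.mem_iUnion.2 ⟨e ⟨i, hi⟩, ?_⟩
      rw [hZsdef, Equiv.symm_apply_apply]
      exact hti
    rw [← iUnion_disjointed, ← hZ'def] at h1
    exact Set.mem_iUnion.1 h1
  refine ⟨J.card, fun j => Subtype.val '' (Z' j) ∩ U₀ (idx (e.symm j)),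
    fun j => U₀ (idx (e.symm j)), fun j => hU₀ _, fun j => Set.inter_subset_right, ?_, ?_, ?_, ?_⟩
  · intro j
    exact (hWo.isOpenMap_subtype_val _ (hZ'c j).2).inter (h𝒰o _ (hU₀ _))
  · intro j
    have : U₀ (idx (e.symm j)) \ (Subtype.val '' (Z' j) ∩ U₀ (idx (e.symm j))) =
        U₀ (idx (e.symm j)) ∩ Subtype.val '' (Z' j)ᶜ := by
      ext p
      constructor
      · rintro ⟨hpU, hpn⟩
        refine ⟨hpU, ⟨⟨p, hUW _ (hidxI _) hpU⟩, ?_, rfl⟩⟩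
        intro hpZ
        exact hpn ⟨⟨_, hpZ, rfl⟩, hpU⟩
      · rintro ⟨hpU, ⟨q, hq, rfl⟩⟩
        refine ⟨hpU, ?_⟩
        rintro ⟨⟨q', hq', hqq⟩, -⟩
        have : q' = q := Subtype.ext hqq
        rw [this] at hq'
        exact hq hq'
    rw [this]
    exact (h𝒰o _ (hU₀ _)).inter (hWo.isOpenMap_subtype_val _ (hZ'c j).1.isOpen_compl)
  · intro j j' hjj'
    have := hZ'dis hjj'
    rw [Function.onFun, Set.disjoint_iff] at this ⊢
    rintro p ⟨⟨⟨q, hq, rfl⟩, -⟩, ⟨⟨q', hq', hqq⟩, -⟩⟩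
    have h3 : q' = q := Subtype.ext hqq
    rw [h3] at hq'
    exact this ⟨hq, hq'⟩
  · rintro _ ⟨t, rfl⟩
    obtain ⟨j, hj⟩ := hZ'cov t
    refine Set.mem_iUnion.2 ⟨j, ⟨⟨φW t, hj, hφWdef t⟩, ?_⟩⟩
    apply hZU
    have := hZ'sub j hj
    rw [hZsdef] at this
    exact this

end Groth.Agent.H8.ProfGrp
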