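import Mathlib
import Groth.Agent.Lib.Helper8.ProfGrp.Top
import Groth.Agent.Lib.Helper8.ProfGrp.Core
import Groth.Agent.S0346

/-!
# S7489: the image of `Spec A → G` (`A` profinite) lies in an affine open
-/

set_option autoImplicit false

universe u

open CategoryTheory CategoryTheory.Limits MonoidalCategory CartesianMonoidalCategory MonObj GrpObj
  AlgebraicGeometry

namespace Groth.Agent.H8.ProfGrp

open Groth.Agent.H8.ProfAlg Groth.Agent.H9.GSC

theorem isAffineOpen_of_clopen {X : Scheme.{u}} {U O : X.Opens} (hU : IsAffineOpen U)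
    (hOU : O ≤ U) (hcl : IsOpen ((U : Set X) \ O)) : IsAffineOpen O := by
  haveI : IsAffine U.toScheme := hU
  have hr : IsClosed (Set.range (X.homOfLE hOU)) := by
    have h1 : Set.range (X.homOfLE hOU) =
        ((U.ι ⁻¹ᵁ O : U.toScheme.Opens) : Set U.toScheme) :=
      congrArg (fun W : U.toScheme.Opens => (W : Set U.toScheme)) (Scheme.opensRange_homOfLE hOU)
    rw [h1, ← isOpen_compl_iff]
    have h2 : ((U.ι ⁻¹ᵁ O : U.toScheme.Opens) : Set U.toScheme)ᶜ =
        U.ι ⁻¹' ((U : Set X) \ O) := by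
      ext p
      have hpU : U.ι p ∈ (U : Set X) := by
        have := Set.mem_range_self (f := U.ι) p
        rwa [Scheme.Opens.range_ι] at this
      constructor
      · intro hp
        exact ⟨hpU, hp⟩
      · intro hp
        exact hp.2
    rw [h2]
    exact hcl.preimage U.ι.continuous
  haveI : IsClosedImmersion (X.homOfLE hOU) := IsClosedImmersion.of_isPreimmersion _ hr
  exact isAffine_of_isAffineHom (X.homOfLE hOU)

open scoped Function in
theorem main (k : Type u) [Field k] [IsAlgClosed k] (G : Over (Spec (CommRingCat.of k)))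
    [GrpObj G] [JacobsonSpace G.left]
    (hrat : ∀ g : G.left, IsClosed ({g} : Set G.left) →
      ∃ x : Spec (CommRingCat.of k) ⟶ G.left, x ≫ G.hom = 𝟙 _ ∧
        x (IsLocalRing.closedPoint k) = g)
    (A : Type u) [CommRing A] [Algebra k A] (hA : IsProf k A)
    (f : Spec (CommRingCat.of A) ⟶ G.left)
    (hf : f ≫ G.hom = Spec.map (CommRingCat.ofHom (algebraMap k A))) :
    ∃ U : G.left.Opens, IsAffineOpen U ∧ Set.range ⇑f ⊆ (U : Set G.left) := by
  have hrat' : ∀ g : G.left, IsClosed ({g} : Set G.left) →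
      ∃ a : 𝟙_ (Over (Spec (CommRingCat.of k))) ⟶ G, ptOf a = g := by
    intro g hg
    obtain ⟨x, hx, hxg⟩ := hrat g hg
    exact ⟨Over.homMk x hx, hxg⟩
  obtain ⟨fT, hfT⟩ : ∃ fT : TT k A ⟶ G, fT.left = f := ⟨Over.homMk f hf, rfl⟩
  haveI : IsSeparated G.hom := (Groth.Agent.S0346.result _ G).1.mpr inferInstance
  haveI : QuasiSeparatedSpace G.left := quasiSeparatedSpace_of_quasiSeparated G.hom
  obtain ⟨n, O, U, hU𝒰, hOU, hOo, hUO, hdis, hcov⟩ :=
    assembly (fun t : (TT k A).left => fT.left t) fT.left.continuous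
      {U : Set G.left | ∃ V : G.left.Opens, IsAffineOpen V ∧ (V : Set G.left) = U}
      (by rintro _ ⟨V, -, rfl⟩; exact V.2)
      (by rintro _ ⟨V, hV, rfl⟩; exact hV.isCompact)
      (by
        intro t
        obtain ⟨_, ⟨V, hV, rfl⟩, htV, -⟩ :=
          G.left.isBasis_affineOpens.exists_subset_of_mem_open (Set.mem_univ (fT.left t))
            isOpen_univ
        obtain ⟨g, hg⟩ := core hrat' hA fT (fT.left t) (V : Set G.left) V.2 htV
          {s | fT.left s ∈ connectedComponent (fT.left t)}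
          (isClosed_connectedComponent.preimage fT.left.continuous) (fun z hz => hz)
        haveI : IsIso (lmul g).hom.left :=
          inferInstanceAs (IsIso ((Over.forget _).map (lmul g).hom))
        exact ⟨(((lmul g).hom.left ⁻¹ᵁ V : G.left.Opens) : Set G.left),
          ⟨_, hV.preimage_of_isIso _, rfl⟩, fun s hs => hg s hs⟩)
      (fun t₀ U hU h => uniform hA fT t₀ U hU h)
  choose V hVaff hVU using hU𝒰
  obtain ⟨O', hO'⟩ : ∃ O' : Fin n → G.left.Opens, ∀ j, (O' j : Set G.left) = O j :=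
    ⟨fun j => ⟨O j, hOo j⟩, fun _ => rfl⟩
  have hO'aff : ∀ j, IsAffineOpen (O' j) := by
    intro j
    refine isAffineOpen_of_clopen (hVaff j) ?_ ?_
    · intro x hx
      have h1 : x ∈ (O' j : Set G.left) := hx
      rw [hO'] at h1
      have h2 := hOU j h1
      rw [← hVU] at h2
      exact h2
    · rw [hVU, hO']
      exact hUO j
  refine ⟨⨆ j, O' j, IsAffineOpen.iSup_of_disjoint hO'aff ?_, ?_⟩
  · intro j j' hjj'
    have := hdis hjj'
    rw [Function.onFun] at this ⊢
    rw [← TopologicalSpace.Opens.coe_disjoint, hO', hO']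
    exact this
  · rintro _ ⟨t, rfl⟩
    have h1 : fT.left t ∈ ⋃ j, O j := hcov ⟨t, rfl⟩
    obtain ⟨j, hj⟩ := Set.mem_iUnion.1 h1
    rw [hfT] at hj
    rw [SetLike.mem_coe, TopologicalSpace.Opens.mem_iSup]
    refine ⟨j, ?_⟩
    have : f t ∈ (O' j : Set G.left) := by rw [hO']; exact hj
    exact this

end Groth.Agent.H8.ProfGrp
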